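import Mathlib

/-!
# S4243 (TEAM KW): the `2`-parts of the orders of the orthogonal groups (helper592)
-/

set_option autoImplicit false

namespace Cfsg.Agent.H592.KW

theorem v_mul {a b : ℕ} (ha : a ≠ 0) (hb : b ≠ 0) : padicValNat 2 (a * b) = padicValNat 2 a + padicValNat 2 b :=
  padicValNat.mul ha hb

theorem q_ne {q n : ℕ} (h1 : 1 < q) (hn : n ≠ 0) : q ^ n - 1 ≠ 0 := by
  have : 1 < q ^ n := Nat.one_lt_pow hn h1
  omega

theorem v_two_mul {n : ℕ} (hn : n ≠ 0) : padicValNat 2 (2 * n) = padicValNat 2 n + 1 := by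
  rw [v_mul two_ne_zero hn, padicValNat.self (by norm_num), add_comm]

theorem v_even' {q i : ℕ} (hq : Odd q) (h1 : 1 < q) (hi : i ≠ 0) :
    padicValNat 2 (q ^ (2 * i) - 1) = padicValNat 2 (q + 1) + padicValNat 2 (q - 1) + padicValNat 2 i := by
  have h := padicValNat.pow_two_sub_pow (x := q) (y := 1) h1 (by obtain ⟨k, rfl⟩ := hq; omega)
    (by obtain ⟨k, rfl⟩ := hq; omega) (n := 2 * i) (by omega) (even_two_mul i)
  rw [one_pow, v_two_mul hi] at h
  omega

theorem v_sq {q : ℕ} (hq : Odd q) (h1 : 1 < q) :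
    padicValNat 2 (q ^ 2 - 1) = padicValNat 2 (q + 1) + padicValNat 2 (q - 1) := by
  have h := v_even' hq h1 one_ne_zero
  rwa [mul_one, padicValNat_one_right, add_zero] at h

theorem v_even {q i : ℕ} (hq : Odd q) (h1 : 1 < q) (hi : i ≠ 0) :
    padicValNat 2 (q ^ (2 * i) - 1) = padicValNat 2 (q ^ 2 - 1) + padicValNat 2 i := by
  rw [v_even' hq h1 hi, v_sq hq h1]

theorem v_odd {q n : ℕ} (hq : Odd q) (h1 : 1 < q) (hn : Odd n) :
    padicValNat 2 (q ^ n - 1) = padicValNat 2 (q - 1) ∧ padicValNat 2 (q ^ n + 1) = padicValNat 2 (q + 1) := by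
  have hn0 : n ≠ 0 := by
    rintro rfl
    revert hn; decide
  have h2 := v_even' hq h1 hn0
  have hn2 : padicValNat 2 n = 0 := padicValNat.eq_zero_of_not_dvd (by obtain ⟨k, rfl⟩ := hn; omega)
  have h3 : q ^ (2 * n) - 1 = (q ^ n - 1) * (q ^ n + 1) := by
    rw [mul_comm 2 n, pow_mul, mul_comm, ← Nat.sq_sub_sq]
  have h4 : padicValNat 2 (q - 1) ≤ padicValNat 2 (q ^ n - 1) := by
    refine (padicValNat_dvd_iff_le (q_ne h1 hn0)).1 (pow_padicValNat_dvd.trans ?_)
    have := Nat.sub_dvd_pow_sub_pow q 1 n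
    rwa [one_pow] at this
  have h5 : padicValNat 2 (q + 1) ≤ padicValNat 2 (q ^ n + 1) := by
    refine (padicValNat_dvd_iff_le (by omega)).1 (pow_padicValNat_dvd.trans ?_)
    have := Odd.nat_add_dvd_pow_add_pow q 1 hn
    rwa [one_pow] at this
  rw [h3, v_mul (q_ne h1 hn0) (by omega), hn2] at h2
  omega

theorem v_even_add {q n : ℕ} (hq : Odd q) (hn : Even n) : padicValNat 2 (q ^ n + 1) = 1 := by
  obtain ⟨k, rfl⟩ := hn
  have h1 : q ^ (k + k) % 4 = 1 := by
    rw [← two_mul, pow_mul, Nat.pow_mod]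
    have h2 : q ^ 2 % 4 = 1 := by
      rw [Nat.pow_mod]
      obtain ⟨a, rfl⟩ := hq
      have : (2 * a + 1) % 4 = 1 ∨ (2 * a + 1) % 4 = 3 := by omega
      rcases this with h | h <;> rw [h]
    rw [h2, one_pow]; rfl
  have h3 : q ^ (k + k) + 1 = 2 * ((q ^ (k + k) + 1) / 2) := by omega
  rw [h3, v_two_mul (by omega), padicValNat.eq_zero_of_not_dvd (by omega)]

theorem prod_ne {q : ℕ} (h1 : 1 < q) (n : ℕ) : (∏ i ∈ Finset.range n, (q ^ (2 * (i + 1)) - 1)) ≠ 0 :=
  Finset.prod_ne_zero_iff.2 fun i _ => q_ne h1 (by omega)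

theorem v_prod {q : ℕ} (hq : Odd q) (h1 : 1 < q) (n : ℕ) :
    padicValNat 2 (∏ i ∈ Finset.range n, (q ^ (2 * (i + 1)) - 1)) =
      n * padicValNat 2 (q ^ 2 - 1) + padicValNat 2 n.factorial := by
  induction n with
  | zero => simp
  | succ n ih =>
    rw [Finset.prod_range_succ, v_mul (prod_ne h1 n) (q_ne h1 (by omega)), ih, v_even hq h1 (by omega),
      Nat.factorial_succ, v_mul (by omega) (Nat.factorial_ne_zero n)]
    ring

theorem v_fact {j t : ℕ} (ht : t < 2) : padicValNat 2 (2 * j + t).factorial = j + padicValNat 2 j.factorial := by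
  rw [padicValNat_factorial_mul_add _ ht, padicValNat_factorial_mul, add_comm]

theorem v_fact_pred {j : ℕ} (hj : j ≠ 0) : padicValNat 2 (2 * j - 1).factorial + padicValNat 2 j + 1 =
    j + padicValNat 2 j.factorial := by
  have h := v_fact (j := j) (t := 0) (by norm_num)
  rw [add_zero, show 2 * j = (2 * j - 1) + 1 by omega, Nat.factorial_succ,
    v_mul (by omega) (Nat.factorial_ne_zero _), show 2 * j - 1 + 1 = 2 * j by omega, v_two_mul hj] at h
  omega

theorem v_odd_pow {q n : ℕ} (hq : Odd q) : padicValNat 2 (q ^ n) = 0 := by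
  apply padicValNat.eq_zero_of_not_dvd
  have := hq.pow (n := n)
  obtain ⟨k, hk⟩ := this
  omega

/-- the `2`-part of `2 q^e c ∏` -/
theorem v_form {q n c e : ℕ} (hq : Odd q) (h1 : 1 < q) (hc : c ≠ 0) :
    padicValNat 2 (2 * q ^ e * c * ∏ i ∈ Finset.range n, (q ^ (2 * (i + 1)) - 1)) =
      1 + padicValNat 2 c + (n * padicValNat 2 (q ^ 2 - 1) + padicValNat 2 n.factorial) := by
  have h0 : q ^ e ≠ 0 := pow_ne_zero _ (by omega)
  have h2 : 2 * q ^ e ≠ 0 := Nat.mul_ne_zero two_ne_zero h0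
  rw [v_mul (Nat.mul_ne_zero h2 hc) (prod_ne h1 n), v_mul h2 hc, v_two_mul h0, v_odd_pow hq, v_prod hq h1, zero_add]

/-- the `2`-part of `2 q^e ∏` -/
theorem v_form' {q n e : ℕ} (hq : Odd q) (h1 : 1 < q) :
    padicValNat 2 (2 * q ^ e * ∏ i ∈ Finset.range n, (q ^ (2 * (i + 1)) - 1)) =
      1 + (n * padicValNat 2 (q ^ 2 - 1) + padicValNat 2 n.factorial) := by
  have h := v_form (e := e) (n := n) hq h1 one_ne_zero
  rwa [mul_one, padicValNat_one_right, add_zero] at h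

/-- the `2`-part of the order of the wreath product -/
theorem v_wr {q j B : ℕ} (hq : Odd q) (h1 : 1 < q) (hB : B ≠ 0) :
    padicValNat 2 ((2 * (q * (q ^ 2 - 1)) ^ 2) ^ j * B * j.factorial) =
      j * (1 + 2 * padicValNat 2 (q ^ 2 - 1)) + padicValNat 2 B + padicValNat 2 j.factorial := by
  have h2 : q * (q ^ 2 - 1) ≠ 0 := Nat.mul_ne_zero (by omega) (q_ne h1 two_ne_zero)
  have h3 : (q * (q ^ 2 - 1)) ^ 2 ≠ 0 := pow_ne_zero _ h2
  have h4 : 2 * (q * (q ^ 2 - 1)) ^ 2 ≠ 0 := Nat.mul_ne_zero two_ne_zero h3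
  have h5 : padicValNat 2 q = 0 := by
    have := v_odd_pow (n := 1) hq
    rwa [pow_one] at this
  rw [v_mul (Nat.mul_ne_zero (pow_ne_zero _ h4) hB) (Nat.factorial_ne_zero _), v_mul (pow_ne_zero _ h4) hB,
    padicValNat.pow, v_two_mul h3, padicValNat.pow, v_mul (by omega) (q_ne h1 two_ne_zero), h5]
  ring

end Cfsg.Agent.H592.KW
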