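import Cfsg.Agent.H592.KW.Siegel
import Cfsg.Agent.H592.KW.Fam
import Cfsg.Agent.S0287

/-!
# S4243 (TEAM KW): the four-dimensional block, `det` on the `2 × 2` matrices (helper592)

* `dq`, `dB`, `qb_dq` : the form;
* `sd true A : X ↦ A X`, `sd false A : X ↦ X A⁻¹` (`A ∈ SL_2`), `Rg s` the two images;
* `fam_Rg` : **every isometry of `det` permutes the two subgroups `Rg true`, `Rg false`** (by counting).
-/

set_option autoImplicit false
set_option linter.unusedSectionVars false

namespace Cfsg.Agent.H592.KW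

open Subgroup Matrix
open scoped MatrixGroups

/-- the `2 × 2` matrices -/
abbrev M2 (F : Type*) := Matrix (Fin 2) (Fin 2) F

section basic

variable {F : Type*} [Field F]

/-- the determinant -/
def dq (X : M2 F) : F := X 0 0 * X 1 1 - X 0 1 * X 1 0

/-- its polar form -/
def dB (X Y : M2 F) : F := X 0 0 * Y 1 1 + X 1 1 * Y 0 0 - X 0 1 * Y 1 0 - X 1 0 * Y 0 1

theorem dq_eq (X : M2 F) : dq X = X.det := (det_fin_two X).symm

theorem qb_dq : QB (dq (F := F)) dB where
  polar x y := by simp only [dq, dB, Matrix.add_apply]; ring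
  smul c x := by simp only [dq, Matrix.smul_apply, smul_eq_mul]; ring
  add_left x y z := by simp only [dB, Matrix.add_apply]; ring
  smul_left c x y := by simp only [dB, Matrix.smul_apply, smul_eq_mul]; ring
  symm x y := by simp only [dB]; ring

/-- `X ↦ A X B⁻¹` -/
def tw (A B : GL (Fin 2) F) (h : (A : M2 F).det = (B : M2 F).det) : OG (dq (F := F)) :=
  ⟨{ toFun := fun X => (A : M2 F) * X * ((B⁻¹ : GL (Fin 2) F) : M2 F)
     invFun := fun X => ((A⁻¹ : GL (Fin 2) F) : M2 F) * X * (B : M2 F)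
     map_add' := fun X Y => by rw [Matrix.mul_add, Matrix.add_mul]
     map_smul' := fun c X => by rw [Matrix.mul_smul, Matrix.smul_mul]; rfl
     left_inv := fun X => by
      change ((A⁻¹ : GL (Fin 2) F) : M2 F) * ((A : M2 F) * X * ((B⁻¹ : GL (Fin 2) F) : M2 F)) * (B : M2 F) = X
      have h1 : ((A⁻¹ : GL (Fin 2) F) : M2 F) * (A : M2 F) = 1 := by rw [← Units.val_mul, inv_mul_cancel, Units.val_one]
      have h2 : ((B⁻¹ : GL (Fin 2) F) : M2 F) * (B : M2 F) = 1 := by rw [← Units.val_mul, inv_mul_cancel, Units.val_one]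
      rw [← Matrix.mul_assoc, ← Matrix.mul_assoc, h1, Matrix.one_mul, Matrix.mul_assoc, h2, Matrix.mul_one]
     right_inv := fun X => by
      change (A : M2 F) * (((A⁻¹ : GL (Fin 2) F) : M2 F) * X * (B : M2 F)) * ((B⁻¹ : GL (Fin 2) F) : M2 F) = X
      have h1 : (A : M2 F) * ((A⁻¹ : GL (Fin 2) F) : M2 F) = 1 := by rw [← Units.val_mul, mul_inv_cancel, Units.val_one]
      have h2 : (B : M2 F) * ((B⁻¹ : GL (Fin 2) F) : M2 F) = 1 := by rw [← Units.val_mul, mul_inv_cancel, Units.val_one]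
      rw [← Matrix.mul_assoc, ← Matrix.mul_assoc, h1, Matrix.one_mul, Matrix.mul_assoc, h2, Matrix.mul_one] },
    fun X => by
      change dq ((A : M2 F) * X * ((B⁻¹ : GL (Fin 2) F) : M2 F)) = dq X
      have h2 : (B : M2 F).det * ((B⁻¹ : GL (Fin 2) F) : M2 F).det = 1 := by
        rw [← Matrix.det_mul, ← Units.val_mul, mul_inv_cancel, Units.val_one, Matrix.det_one]
      rw [dq_eq, dq_eq, Matrix.det_mul, Matrix.det_mul, h, mul_comm (B : M2 F).det, mul_assoc, h2, mul_one]⟩

theorem tw_apply (A B : GL (Fin 2) F) (h : (A : M2 F).det = (B : M2 F).det) (X : M2 F) :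
    tw A B h X = (A : M2 F) * X * ((B⁻¹ : GL (Fin 2) F) : M2 F) := rfl

/-- the transposition -/
def tau : OG (dq (F := F)) :=
  ⟨{ toFun := fun X => Xᵀ
     invFun := fun X => Xᵀ
     map_add' := fun _ _ => rfl
     map_smul' := fun _ _ => rfl
     left_inv := fun _ => rfl
     right_inv := fun _ => rfl }, fun X => by
      change dq Xᵀ = dq X
      rw [dq_eq, dq_eq, Matrix.det_transpose]⟩

theorem tau_apply (X : M2 F) : (tau : OG (dq (F := F))) X = Xᵀ := rfl

theorem tau_inv : (tau : OG (dq (F := F)))⁻¹ = tau := by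
  rw [inv_eq_iff_mul_eq_one]
  exact OG.ext fun X => rfl

/-- the left and the right multiplications -/
def sd : Bool → (SL(2, F) →* OG (dq (F := F)))
  | true =>
    { toFun := fun A => tw A.toGL 1 (by
        rw [Units.val_one, Matrix.det_one]
        exact A.2)
      map_one' := OG.ext fun X => by
        rw [tw_apply, map_one, Units.val_one, inv_one, Units.val_one, Matrix.one_mul, Matrix.mul_one]; rfl
      map_mul' := fun A B => OG.ext fun X => by
        rw [OG.mul_apply, tw_apply, tw_apply, tw_apply, map_mul, inv_one, Units.val_one, Matrix.mul_one, Matrix.mul_one,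
          Matrix.mul_one, Units.val_mul, Matrix.mul_assoc] }
  | false =>
    { toFun := fun A => tw 1 A.toGL (by
        rw [Units.val_one, Matrix.det_one]
        exact A.2.symm)
      map_one' := OG.ext fun X => by
        rw [tw_apply, map_one, Units.val_one, inv_one, Units.val_one, Matrix.one_mul, Matrix.mul_one]; rfl
      map_mul' := fun A B => OG.ext fun X => by
        rw [OG.mul_apply, tw_apply, tw_apply, tw_apply, map_mul, _root_.mul_inv_rev, Units.val_mul]
        simp only [Units.val_one, Matrix.one_mul, Matrix.mul_assoc] }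

theorem sd_true (A : SL(2, F)) (X : M2 F) : sd true A X = (A : M2 F) * X := by
  change (A : M2 F) * X * (((1 : GL (Fin 2) F)⁻¹ : GL (Fin 2) F) : M2 F) = _
  rw [inv_one, Units.val_one, Matrix.mul_one]

theorem sd_false (A : SL(2, F)) (X : M2 F) : sd false A X = X * ((A⁻¹ : SL(2, F)) : M2 F) := by
  change ((1 : GL (Fin 2) F) : M2 F) * X * (((A.toGL)⁻¹ : GL (Fin 2) F) : M2 F) = _
  rw [← map_inv, Units.val_one, Matrix.one_mul]
  rfl

theorem sd_comm (A B : SL(2, F)) : sd true A * sd false B = sd false B * sd true A := by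
  refine OG.ext fun X => ?_
  rw [OG.mul_apply, OG.mul_apply, sd_true, sd_false, sd_true, sd_false, Matrix.mul_assoc]

theorem sd_inj (s : Bool) : Function.Injective (sd (F := F) s) := by
  intro A B h
  have h1 : sd s A (1 : M2 F) = sd s B (1 : M2 F) := by rw [h]
  cases s with
  | true =>
    rw [sd_true, sd_true, Matrix.mul_one, Matrix.mul_one] at h1
    exact Subtype.ext h1
  | false =>
    rw [sd_false, sd_false, Matrix.one_mul, Matrix.one_mul] at h1
    exact inv_injective (Subtype.ext h1)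

/-- the two `SL_2` in the isometry group of `det` -/
def Rg (s : Bool) : Subgroup (OG (dq (F := F))) := (sd s).range

/-- the conjugate of a matrix of determinant one -/
def cjS (A : GL (Fin 2) F) (S : SL(2, F)) : SL(2, F) :=
  ⟨(A : M2 F) * (S : M2 F) * ((A⁻¹ : GL (Fin 2) F) : M2 F), by
    have h2 : (A : M2 F).det * ((A⁻¹ : GL (Fin 2) F) : M2 F).det = 1 := by
      rw [← Matrix.det_mul, ← Units.val_mul, mul_inv_cancel, Units.val_one, Matrix.det_one]
    rw [Matrix.det_mul, Matrix.det_mul, S.2, mul_one, h2]⟩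

theorem cjS_coe (A : GL (Fin 2) F) (S : SL(2, F)) :
    (cjS A S : M2 F) = (A : M2 F) * (S : M2 F) * ((A⁻¹ : GL (Fin 2) F) : M2 F) := rfl

theorem cjS_mul (A B : GL (Fin 2) F) (S : SL(2, F)) : cjS (A * B) S = cjS A (cjS B S) := by
  apply Subtype.ext
  change ((A * B : GL (Fin 2) F) : M2 F) * (S : M2 F) * (((A * B)⁻¹ : GL (Fin 2) F) : M2 F) =
    (A : M2 F) * ((B : M2 F) * (S : M2 F) * ((B⁻¹ : GL (Fin 2) F) : M2 F)) * ((A⁻¹ : GL (Fin 2) F) : M2 F)
  rw [_root_.mul_inv_rev, Units.val_mul, Units.val_mul]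
  simp only [Matrix.mul_assoc]

theorem cjS_one (S : SL(2, F)) : cjS 1 S = S := by
  apply Subtype.ext
  change ((1 : GL (Fin 2) F) : M2 F) * (S : M2 F) * (((1 : GL (Fin 2) F)⁻¹ : GL (Fin 2) F) : M2 F) = S
  rw [inv_one, Units.val_one, Matrix.one_mul, Matrix.mul_one]

theorem cjS_toGL (A S : SL(2, F)) : cjS A.toGL S = A * S * A⁻¹ := by
  apply Subtype.ext
  rw [cjS_coe, ← map_inv]
  rfl

theorem cjS_inv (A : GL (Fin 2) F) (S : SL(2, F)) : (cjS A S)⁻¹ = cjS A S⁻¹ := by
  rw [inv_eq_iff_mul_eq_one]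
  apply Subtype.ext
  change (A : M2 F) * (S : M2 F) * ((A⁻¹ : GL (Fin 2) F) : M2 F) *
    ((A : M2 F) * ((S⁻¹ : SL(2, F)) : M2 F) * ((A⁻¹ : GL (Fin 2) F) : M2 F)) = 1
  have h1 : ((A⁻¹ : GL (Fin 2) F) : M2 F) * (A : M2 F) = 1 := by rw [← Units.val_mul, inv_mul_cancel, Units.val_one]
  have h2 : (A : M2 F) * ((A⁻¹ : GL (Fin 2) F) : M2 F) = 1 := by rw [← Units.val_mul, mul_inv_cancel, Units.val_one]
  have h3 : (S : M2 F) * ((S⁻¹ : SL(2, F)) : M2 F) = 1 := congrArg Subtype.val (mul_inv_cancel S)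
  calc _ = (A : M2 F) * (S : M2 F) * (((A⁻¹ : GL (Fin 2) F) : M2 F) * (A : M2 F)) * ((S⁻¹ : SL(2, F)) : M2 F) *
      ((A⁻¹ : GL (Fin 2) F) : M2 F) := by simp only [Matrix.mul_assoc]
    _ = (A : M2 F) * ((S : M2 F) * ((S⁻¹ : SL(2, F)) : M2 F)) * ((A⁻¹ : GL (Fin 2) F) : M2 F) := by
      rw [h1, Matrix.mul_one]; simp only [Matrix.mul_assoc]
    _ = 1 := by rw [h3, Matrix.mul_one, h2]

theorem tw_sd_true (A B : GL (Fin 2) F) (h : (A : M2 F).det = (B : M2 F).det) (S : SL(2, F)) :
    tw A B h * sd true S = sd true (cjS A S) * tw A B h := by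
  refine OG.ext fun X => ?_
  rw [OG.mul_apply, OG.mul_apply, sd_true, sd_true, tw_apply, tw_apply, cjS_coe]
  have h1 : ((A⁻¹ : GL (Fin 2) F) : M2 F) * (A : M2 F) = 1 := by rw [← Units.val_mul, inv_mul_cancel, Units.val_one]
  calc (A : M2 F) * ((S : M2 F) * X) * ((B⁻¹ : GL (Fin 2) F) : M2 F) =
      (A : M2 F) * (S : M2 F) * 1 * X * ((B⁻¹ : GL (Fin 2) F) : M2 F) := by
        rw [Matrix.mul_one]; simp only [Matrix.mul_assoc]
    _ = _ := by rw [← h1]; simp only [Matrix.mul_assoc]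

theorem tw_sd_false (A B : GL (Fin 2) F) (h : (A : M2 F).det = (B : M2 F).det) (S : SL(2, F)) :
    tw A B h * sd false S = sd false (cjS B S) * tw A B h := by
  refine OG.ext fun X => ?_
  rw [OG.mul_apply, OG.mul_apply, sd_false, sd_false, tw_apply, tw_apply, cjS_inv, cjS_coe]
  have h1 : ((B⁻¹ : GL (Fin 2) F) : M2 F) * (B : M2 F) = 1 := by rw [← Units.val_mul, inv_mul_cancel, Units.val_one]
  calc (A : M2 F) * (X * ((S⁻¹ : SL(2, F)) : M2 F)) * ((B⁻¹ : GL (Fin 2) F) : M2 F) =
      (A : M2 F) * X * 1 * ((S⁻¹ : SL(2, F)) : M2 F) * ((B⁻¹ : GL (Fin 2) F) : M2 F) := by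
        rw [Matrix.mul_one]; simp only [Matrix.mul_assoc]
    _ = _ := by rw [← h1]; simp only [Matrix.mul_assoc]

/-- the inverse transposed matrix -/
def itr (S : SL(2, F)) : SL(2, F) := ⟨((S⁻¹ : SL(2, F)) : M2 F)ᵀ, by rw [Matrix.det_transpose]; exact (S⁻¹).2⟩

/-- the transposed matrix -/
def trS (S : SL(2, F)) : SL(2, F) := ⟨(S : M2 F)ᵀ, by rw [Matrix.det_transpose]; exact S.2⟩

theorem itr_inv (S : SL(2, F)) : (itr S)⁻¹ = trS S := by
  apply inv_eq_of_mul_eq_one_right
  apply Subtype.ext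
  change ((S⁻¹ : SL(2, F)) : M2 F)ᵀ * (S : M2 F)ᵀ = 1
  rw [← Matrix.transpose_mul]
  have h3 : (S : M2 F) * ((S⁻¹ : SL(2, F)) : M2 F) = 1 := congrArg Subtype.val (mul_inv_cancel S)
  rw [h3, Matrix.transpose_one]

theorem tau_sd_true (S : SL(2, F)) : tau * sd true S = sd false (itr S) * tau := by
  refine OG.ext fun X => ?_
  rw [OG.mul_apply, OG.mul_apply, sd_true, sd_false, tau_apply, tau_apply, Matrix.transpose_mul, itr_inv]
  rfl

theorem cj_range_of {s t : Bool} {g : OG (dq (F := F))} (h : ∀ S, ∃ S', g * sd s S = sd t S' * g)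
    (h' : ∀ S, ∃ S', g⁻¹ * sd t S = sd s S' * g⁻¹) : cj g (Rg s) = Rg t := by
  ext x
  rw [mem_cj]
  constructor
  · rintro ⟨S, hS⟩
    obtain ⟨S', hS'⟩ := h S
    refine ⟨S', ?_⟩
    rw [hS] at hS'
    have h1 : x = g * (g⁻¹ * x * g) * g⁻¹ := by group
    rw [h1, hS']
    group
  · rintro ⟨S, rfl⟩
    obtain ⟨S', hS'⟩ := h' S
    refine ⟨S', ?_⟩
    rw [hS']
    group

theorem tw_inv (A B : GL (Fin 2) F) (h : (A : M2 F).det = (B : M2 F).det) :
    (tw A B h)⁻¹ = tw A⁻¹ B⁻¹ (by
      have h1 : (A : M2 F).det * ((A⁻¹ : GL (Fin 2) F) : M2 F).det = 1 := by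
        rw [← Matrix.det_mul, ← Units.val_mul, mul_inv_cancel, Units.val_one, Matrix.det_one]
      have h2 : (B : M2 F).det * ((B⁻¹ : GL (Fin 2) F) : M2 F).det = 1 := by
        rw [← Matrix.det_mul, ← Units.val_mul, mul_inv_cancel, Units.val_one, Matrix.det_one]
      have h3 : (A : M2 F).det ≠ 0 := left_ne_zero_of_mul_eq_one h1
      apply mul_left_cancel₀ h3
      rw [h1, h, h2]) := by
  rw [inv_eq_iff_mul_eq_one]
  refine OG.ext fun X => ?_
  rw [OG.mul_apply, tw_apply, tw_apply, inv_inv]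
  have h1 : (A : M2 F) * ((A⁻¹ : GL (Fin 2) F) : M2 F) = 1 := by rw [← Units.val_mul, mul_inv_cancel, Units.val_one]
  have h2 : (B : M2 F) * ((B⁻¹ : GL (Fin 2) F) : M2 F) = 1 := by rw [← Units.val_mul, mul_inv_cancel, Units.val_one]
  rw [← Matrix.mul_assoc, ← Matrix.mul_assoc, h1, Matrix.one_mul, Matrix.mul_assoc, h2, Matrix.mul_one]
  rfl

theorem cj_tw (A B : GL (Fin 2) F) (h : (A : M2 F).det = (B : M2 F).det) (s : Bool) : cj (tw A B h) (Rg s) = Rg s := by
  cases s with
  | true => exact cj_range_of (fun S => ⟨_, tw_sd_true A B h S⟩) (fun S => ⟨_, by rw [tw_inv]; exact tw_sd_true _ _ _ S⟩)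
  | false => exact cj_range_of (fun S => ⟨_, tw_sd_false A B h S⟩) (fun S => ⟨_, by rw [tw_inv]; exact tw_sd_false _ _ _ S⟩)

theorem itr_itr (S : SL(2, F)) : itr (itr S) = S := by
  apply Subtype.ext
  change (((itr S)⁻¹ : SL(2, F)) : M2 F)ᵀ = S
  rw [itr_inv]
  exact Matrix.transpose_transpose _

theorem tau_sd_false (S : SL(2, F)) : tau * sd false S = sd true (itr S) * tau := by
  have h := tau_sd_true (itr S)
  rw [itr_itr] at h
  have h1 : (tau : OG (dq (F := F))) * tau = 1 := by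
    have := tau_inv (F := F)
    rwa [inv_eq_iff_mul_eq_one] at this
  calc tau * sd false S = tau * (sd false S * tau) * tau := by rw [mul_assoc, mul_assoc, h1, mul_one]
    _ = tau * tau * sd true (itr S) * tau := by rw [← h]; group
    _ = _ := by rw [h1, one_mul]

theorem cj_tau (s : Bool) : cj (tau : OG (dq (F := F))) (Rg s) = Rg (!s) := by
  cases s with
  | true => exact cj_range_of (fun S => ⟨_, tau_sd_true S⟩) (fun S => ⟨_, by rw [tau_inv]; exact tau_sd_false S⟩)
  | false => exact cj_range_of (fun S => ⟨_, tau_sd_false S⟩) (fun S => ⟨_, by rw [tau_inv]; exact tau_sd_true S⟩)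

/-- two noncommuting elements of `SL_2` -/
theorem exists_noncomm : ∃ A B : SL(2, F), A * B ≠ B * A := by
  refine ⟨⟨!![1, 1; 0, 1], by simp⟩, ⟨!![1, 0; 1, 1], by simp⟩, fun h => ?_⟩
  have h1 := congrArg (fun S : SL(2, F) => (S : M2 F) 0 0) h
  change (!![1, 1; 0, 1] * !![1, 0; 1, 1] : M2 F) 0 0 = (!![1, 0; 1, 1] * !![1, 1; 0, 1] : M2 F) 0 0 at h1
  simp [Matrix.mul_apply, Fin.sum_univ_two] at h1

theorem Rg_ne : Rg (F := F) true ≠ Rg false := by
  intro h
  obtain ⟨A, B, hAB⟩ := exists_noncomm (F := F)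
  have h1 : sd true B ∈ Rg (F := F) false := h ▸ ⟨B, rfl⟩
  obtain ⟨B', hB'⟩ := h1
  apply hAB
  apply sd_inj true
  rw [map_mul, map_mul, ← hB', sd_comm]

theorem Rg_inj : Function.Injective (Rg (F := F)) := by
  intro s t h
  cases s <;> cases t
  · rfl
  · exact absurd h.symm Rg_ne
  · exact absurd h Rg_ne
  · rfl

end basic

section count

variable {F : Type} [Field F] [Fintype F]

/-- the quotient of the determinants -/
def dl : GL (Fin 2) F × GL (Fin 2) F →* Fˣ where
  toFun x := Matrix.GeneralLinearGroup.det x.1 * (Matrix.GeneralLinearGroup.det x.2)⁻¹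
  map_one' := by simp
  map_mul' x y := by
    simp only [Prod.fst_mul, Prod.snd_mul, map_mul, _root_.mul_inv_rev]
    rw [mul_comm (Matrix.GeneralLinearGroup.det y.2)⁻¹]
    exact mul_mul_mul_comm _ _ _ _

theorem det_eq_of_mem {x : GL (Fin 2) F × GL (Fin 2) F} (hx : x ∈ (dl (F := F)).ker) :
    (x.1 : M2 F).det = (x.2 : M2 F).det := by
  have h1 : Matrix.GeneralLinearGroup.det x.1 * (Matrix.GeneralLinearGroup.det x.2)⁻¹ = 1 := hx
  rw [mul_inv_eq_one] at h1
  exact congrArg Units.val h1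

/-- the two-sided multiplications -/
def twH : (dl (F := F)).ker →* OG (dq (F := F)) where
  toFun x := tw x.1.1 x.1.2 (det_eq_of_mem x.2)
  map_one' := OG.ext fun X => by
    rw [tw_apply]
    change ((1 : GL (Fin 2) F) : M2 F) * X * (((1 : GL (Fin 2) F)⁻¹ : GL (Fin 2) F) : M2 F) = X
    rw [inv_one, Units.val_one, Matrix.one_mul, Matrix.mul_one]
  map_mul' x y := OG.ext fun X => by
    rw [OG.mul_apply, tw_apply, tw_apply, tw_apply]
    change ((x.1.1 * y.1.1 : GL (Fin 2) F) : M2 F) * X * (((x.1.2 * y.1.2)⁻¹ : GL (Fin 2) F) : M2 F) = _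
    rw [_root_.mul_inv_rev, Units.val_mul, Units.val_mul]
    simp only [Matrix.mul_assoc]

theorem card_ker_dl : Nat.card (GL (Fin 2) F) ^ 2 ≤ Nat.card (dl (F := F)).ker * (Fintype.card F - 1) := by
  have h1 := Subgroup.card_mul_index (dl (F := F)).ker
  rw [Nat.card_prod, Subgroup.index_ker] at h1
  rw [pow_two, ← h1]
  refine Nat.mul_le_mul_left _ ?_
  have h2 := Subgroup.card_le_card_group (dl (F := F)).range
  refine h2.trans ?_
  rw [Nat.card_units, Nat.card_eq_fintype_card]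

theorem card_ker_twH : Nat.card (twH (F := F)).ker ≤ Fintype.card F - 1 := by
  have h0 : Nat.card Fˣ = Fintype.card F - 1 := by rw [Nat.card_units, Nat.card_eq_fintype_card]
  rw [← h0]
  have key : ∀ x : (twH (F := F)).ker, ∃ c : Fˣ, ((x.1.1.1 : GL (Fin 2) F) : M2 F) = (c : F) • 1 ∧ x.1.1.2 = x.1.1.1 := by
    intro x
    have h1 : ∀ X : M2 F, ((x.1.1.1 : GL (Fin 2) F) : M2 F) * X * (((x.1.1.2)⁻¹ : GL (Fin 2) F) : M2 F) = X := fun X => by
      have h2 : twH x.1 X = X := by rw [x.2]; rfl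
      exact h2
    have h2 : x.1.1.2 = x.1.1.1 := by
      have h3 := h1 1
      rw [Matrix.mul_one, ← Units.val_mul] at h3
      have h4 : x.1.1.1 * (x.1.1.2)⁻¹ = 1 := Units.ext h3
      exact (mul_inv_eq_one.1 h4).symm
    have h3 : ∀ X : M2 F, ((x.1.1.1 : GL (Fin 2) F) : M2 F) * X = X * ((x.1.1.1 : GL (Fin 2) F) : M2 F) := by
      intro X
      have h4 := h1 X
      rw [h2] at h4
      have h5 : (((x.1.1.1)⁻¹ : GL (Fin 2) F) : M2 F) * ((x.1.1.1 : GL (Fin 2) F) : M2 F) = 1 := by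
        rw [← Units.val_mul, inv_mul_cancel, Units.val_one]
      calc ((x.1.1.1 : GL (Fin 2) F) : M2 F) * X = ((x.1.1.1 : GL (Fin 2) F) : M2 F) * X *
            ((((x.1.1.1)⁻¹ : GL (Fin 2) F) : M2 F) * ((x.1.1.1 : GL (Fin 2) F) : M2 F)) := by rw [h5, Matrix.mul_one]
        _ = ((x.1.1.1 : GL (Fin 2) F) : M2 F) * X * (((x.1.1.1)⁻¹ : GL (Fin 2) F) : M2 F) *
            ((x.1.1.1 : GL (Fin 2) F) : M2 F) := by simp only [Matrix.mul_assoc]
        _ = _ := by rw [h4]
    set A : M2 F := ((x.1.1.1 : GL (Fin 2) F) : M2 F) with hA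
    have e1 := h3 !![0, 1; 0, 0]
    have e2 := h3 !![0, 0; 1, 0]
    have a1 := congrFun (congrFun e1 0) 0
    have a2 := congrFun (congrFun e1 0) 1
    have a3 := congrFun (congrFun e2 0) 0
    simp [Matrix.mul_apply, Fin.sum_univ_two] at a1 a2 a3
    replace a1 := a1.symm
    have hd : A.det ≠ 0 := by
      have h6 : A.det * (((x.1.1.1)⁻¹ : GL (Fin 2) F) : M2 F).det = 1 := by
        rw [← Matrix.det_mul, hA, ← Units.val_mul, mul_inv_cancel, Units.val_one, Matrix.det_one]
      exact left_ne_zero_of_mul_eq_one h6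
    have hA0 : A 0 0 ≠ 0 := by
      intro h7
      apply hd
      rw [Matrix.det_fin_two, h7, a3]
      ring
    refine ⟨Units.mk0 (A 0 0) hA0, ?_, h2⟩
    ext i j
    fin_cases i <;> fin_cases j <;> simp [a1, a2, a3]
  choose c hc hc' using key
  refine Nat.card_le_card_of_injective c ?_
  intro x y hxy
  have h1 : x.1.1.1 = y.1.1.1 := Units.ext (by rw [hc, hc, hxy])
  exact Subtype.ext (Subtype.ext (Prod.ext h1 (by rw [hc', hc', h1])))

theorem card_GL2 : Nat.card (GL (Fin 2) F) = (Fintype.card F ^ 2 - 1) * (Fintype.card F * (Fintype.card F - 1)) := by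
  rw [Matrix.card_GL_field, Fin.prod_univ_two]
  simp only [Fin.val_zero, Fin.val_one, pow_zero, pow_one]
  congr 1
  rw [Nat.mul_sub, mul_one, pow_two]

theorem card_range_twH : (Fintype.card F * (Fintype.card F ^ 2 - 1)) ^ 2 ≤ Nat.card (twH (F := F)).range := by
  have h1 := Subgroup.card_mul_index (twH (F := F)).ker
  rw [Subgroup.index_ker] at h1
  have h2 := card_ker_dl (F := F)
  have h3 := card_ker_twH (F := F)
  rw [card_GL2] at h2
  have hq : 1 < Fintype.card F := Fintype.one_lt_card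
  have hq1 : 0 < Fintype.card F - 1 := by omega
  rw [← h1] at h2
  have h4 : (Fintype.card F * (Fintype.card F ^ 2 - 1)) ^ 2 * (Fintype.card F - 1) ^ 2 ≤
      Nat.card (twH (F := F)).range * (Fintype.card F - 1) ^ 2 := by
    calc (Fintype.card F * (Fintype.card F ^ 2 - 1)) ^ 2 * (Fintype.card F - 1) ^ 2 =
        ((Fintype.card F ^ 2 - 1) * (Fintype.card F * (Fintype.card F - 1))) ^ 2 := by ring
      _ ≤ Nat.card (twH (F := F)).ker * Nat.card (twH (F := F)).range * (Fintype.card F - 1) := h2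
      _ ≤ (Fintype.card F - 1) * Nat.card (twH (F := F)).range * (Fintype.card F - 1) :=
        Nat.mul_le_mul_right _ (Nat.mul_le_mul_right _ h3)
      _ = _ := by ring
  exact Nat.le_of_mul_le_mul_right h4 (by positivity)

/-- the coordinates of the block -/
def eM : (Fin 2 ⊕ Fin 2 → F) ≃ₗ[F] M2 F where
  toFun v := !![v (.inl 0), - v (.inl 1); v (.inr 1), v (.inr 0)]
  invFun X := Sum.elim ![X 0 0, - X 0 1] ![X 1 1, X 1 0]
  map_add' u v := by
    ext i j
    fin_cases i <;> fin_cases j <;> simp [add_comm]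
  map_smul' c v := by
    ext i j
    fin_cases i <;> fin_cases j <;> simp
  left_inv v := by
    funext x
    rcases x with x | x <;> fin_cases x <;> simp
  right_inv X := by
    ext i j
    fin_cases i <;> fin_cases j <;> simp

theorem eM_form (v : Fin 2 ⊕ Fin 2 → F) : Cfsg.quadFormPlus 2 F v = dq (eM v) := by
  change ∑ i : Fin 2, v (.inl i) * v (.inr i) = v (.inl 0) * v (.inr 0) - (- v (.inl 1)) * v (.inr 1)
  rw [Fin.sum_univ_two]
  ring

theorem card_OG_dq : Nat.card (OG (dq (F := F))) = 2 * (Fintype.card F * (Fintype.card F ^ 2 - 1)) ^ 2 := by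
  rw [card_OG eM eM_form, Cfsg.Agent.S0287.result rfl 2 (by norm_num)]
  simp only [show 2 - 1 = 1 from rfl, Finset.prod_range_one, zero_add, mul_one]
  ring

/-- **Every isometry of `det` permutes the left and the right multiplications.** -/
theorem fam_Rg : fam (Rg (F := F)) = ⊤ := by
  have h1 := card_range_twH (F := F)
  have h2 := card_OG_dq (F := F)
  have hr : ∀ x ∈ (twH (F := F)).range, ∀ s, cj x (Rg s) = Rg s := by
    rintro _ ⟨x, rfl⟩ s
    exact cj_tw _ _ (det_eq_of_mem x.2) s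
  have ht : (tau : OG (dq (F := F))) ∉ (twH (F := F)).range := by
    intro h
    have h3 := hr _ h true
    rw [cj_tau] at h3
    exact Rg_ne h3.symm
  have hf1 : ∀ x ∈ (twH (F := F)).range, x ∈ fam (Rg (F := F)) := fun x hx =>
    mem_fam_of Rg_inj fun s => ⟨s, hr x hx s⟩
  have hf2 : (tau : OG (dq (F := F))) ∈ fam (Rg (F := F)) := mem_fam_of Rg_inj fun s => ⟨!s, cj_tau s⟩
  have h3 : 2 * Nat.card (twH (F := F)).range ≤ Nat.card (fam (Rg (F := F))) := by
    have h4 : 2 * Nat.card (twH (F := F)).range = Nat.card (Bool × (twH (F := F)).range) := by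
      rw [Nat.card_prod, Nat.card_eq_fintype_card (α := Bool), Fintype.card_bool]
    rw [h4]
    refine Nat.card_le_card_of_injective (fun x : Bool × (twH (F := F)).range =>
      (⟨(if x.1 then tau else 1) * (x.2 : OG (dq (F := F))), mul_mem (by
        split_ifs
        · exact hf2
        · exact one_mem _) (hf1 _ x.2.2)⟩ : fam (Rg (F := F)))) ?_
    rintro ⟨a, x⟩ ⟨b, y⟩ hxy
    have h5 : (if a then tau else 1) * (x : OG (dq (F := F))) = (if b then tau else 1) * (y : OG (dq (F := F))) :=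
      congrArg Subtype.val hxy
    cases a <;> cases b
    · simp only [Bool.false_eq_true, if_false, one_mul] at h5
      rw [Subtype.ext h5]
    · exfalso
      simp only [Bool.false_eq_true, if_false, one_mul, if_true] at h5
      apply ht
      have h6 : (tau : OG (dq (F := F))) = x * (y : OG (dq (F := F)))⁻¹ := by rw [h5]; group
      rw [h6]
      exact mul_mem x.2 (inv_mem y.2)
    · exfalso
      simp only [Bool.false_eq_true, if_false, one_mul, if_true] at h5
      apply ht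
      have h6 : (tau : OG (dq (F := F))) = y * (x : OG (dq (F := F)))⁻¹ := by rw [← h5]; group
      rw [h6]
      exact mul_mem y.2 (inv_mem x.2)
    · simp only [if_true] at h5
      rw [Subtype.ext (mul_left_cancel h5)]
  apply Subgroup.eq_top_of_le_card
  rw [h2]
  refine le_trans ?_ h3
  exact Nat.mul_le_mul_left 2 h1

end count

end Cfsg.Agent.H592.KW
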