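import Cfsg.Agent.H592.KW.Blk

/-!
# S4243 (TEAM KW): isometries normalising or centralising the blocks (helper592)

* `exists_cjS` : an isometry normalising the block `KK (i, true)` acts on it like a matrix `A ∈ GL_2(F)` (Skolem-Noether);
* `exists_scalar`, `fst_zero` : an isometry centralising all blocks acts as a scalar on each block of the space.
-/

set_option autoImplicit false
set_option linter.unusedSectionVars false

namespace Cfsg.Agent.H592.KW

open Subgroup Matrix
open scoped MatrixGroups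

section sl

variable {F : Type} [Field F]

theorem sl_involution (h2 : (2 : F) ≠ 0) {S : SL(2, F)} (h : S * S = 1) : S = 1 ∨ S = -1 := by
  have h1 : (S : M2 F) * (S : M2 F) = 1 := congrArg Subtype.val h
  have hd := S.2
  rw [Matrix.det_fin_two] at hd
  set A : M2 F := (S : M2 F) with hA
  have e00 := congrFun (congrFun h1 0) 0
  have e01 := congrFun (congrFun h1 0) 1
  have e10 := congrFun (congrFun h1 1) 0
  have e11 := congrFun (congrFun h1 1) 1
  simp only [Matrix.mul_apply, Fin.sum_univ_two, Matrix.one_apply_eq, Matrix.one_apply_ne (show (0 : Fin 2) ≠ 1 by decide),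
    Matrix.one_apply_ne (show (1 : Fin 2) ≠ 0 by decide)] at e00 e01 e10 e11
  have ht : A 0 0 + A 1 1 ≠ 0 := by
    intro ht
    apply h2
    linear_combination (-1 : F) * hd - e00 + A 0 0 * ht
  have b0 : A 0 1 = 0 := by
    apply (mul_eq_zero.1 (show (A 0 0 + A 1 1) * A 0 1 = 0 by linear_combination e01)).resolve_left ht
  have c0 : A 1 0 = 0 := by
    apply (mul_eq_zero.1 (show (A 0 0 + A 1 1) * A 1 0 = 0 by linear_combination e10)).resolve_left ht
  rw [b0, zero_mul, add_zero] at e00
  rw [b0, zero_mul, sub_zero] at hd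
  have had : A 1 1 = A 0 0 := by
    have h0 : A 0 0 ≠ 0 := by
      intro h0
      rw [h0, zero_mul] at e00
      exact zero_ne_one e00
    apply mul_left_cancel₀ h0
    rw [hd, e00]
  have ha : A 0 0 = 1 ∨ A 0 0 = -1 := by
    have : (A 0 0 - 1) * (A 0 0 + 1) = 0 := by linear_combination e00
    rcases mul_eq_zero.1 this with h3 | h3
    · left; linear_combination h3
    · right; linear_combination h3
  rcases ha with ha | ha
  · left
    apply Subtype.ext
    change A = 1
    ext i j
    fin_cases i <;> fin_cases j <;> simp [b0, c0, had, ha]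
  · right
    apply Subtype.ext
    change A = -1
    ext i j
    fin_cases i <;> fin_cases j <;> simp [b0, c0, had, ha]

theorem sl_span {P : Submodule F (M2 F)} (h : ∀ S : SL(2, F), (S : M2 F) ∈ P) (X : M2 F) : X ∈ P := by
  have h1 : (1 : M2 F) ∈ P := h 1
  have h2 : (!![1, 1; 0, 1] : M2 F) ∈ P := h ⟨!![1, 1; 0, 1], by simp⟩
  have h3 : (!![1, 0; 1, 1] : M2 F) ∈ P := h ⟨!![1, 0; 1, 1], by simp⟩
  have h4 : (!![1, 1; -1, 0] : M2 F) ∈ P := h ⟨!![1, 1; -1, 0], by simp⟩
  have e : X = (X 0 1 - X 0 0 + X 1 1) • (!![1, 1; 0, 1] : M2 F) + (X 1 0 + X 0 0 - X 1 1) • (!![1, 0; 1, 1] : M2 F) +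
      (X 0 0 - X 1 1) • (!![1, 1; -1, 0] : M2 F) + (X 1 1 - X 0 1 - X 1 0) • (1 : M2 F) := by
    ext i j
    fin_cases i <;> fin_cases j <;> (simp; try ring)
  rw [e]
  exact add_mem (add_mem (add_mem (P.smul_mem _ h2) (P.smul_mem _ h3)) (P.smul_mem _ h4)) (P.smul_mem _ h1)

/-- Every algebra automorphism of a full matrix algebra is inner. -/
theorem exists_conj_of_algEquiv (φ : M2 F ≃ₐ[F] M2 F) :
    ∃ P : GL (Fin 2) F, ∀ X : M2 F, φ X = (P : M2 F) * X * ((P⁻¹ : GL (Fin 2) F) : M2 F) := by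
  classical
  let L : M2 F ≃ₐ[F] Module.End F (Fin 2 → F) := Matrix.toLinAlgEquiv'
  obtain ⟨T, hT⟩ := AlgEquiv.eq_linearEquivConjAlgEquiv ((L.symm.trans φ).trans L)
  let P : GL (Fin 2) F :=
    { val := LinearMap.toMatrix' (T : (Fin 2 → F) →ₗ[F] (Fin 2 → F))
      inv := LinearMap.toMatrix' (T.symm : (Fin 2 → F) →ₗ[F] (Fin 2 → F))
      val_inv := by
        rw [← LinearMap.toMatrix'_comp]
        simp
      inv_val := by
        rw [← LinearMap.toMatrix'_comp]
        simp }
  refine ⟨P, fun X => ?_⟩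
  apply L.injective
  have h1 := congrArg (fun g : Module.End F (Fin 2 → F) ≃ₐ[F] Module.End F (Fin 2 → F) => g (L X)) hT
  simp only [AlgEquiv.trans_apply, AlgEquiv.symm_apply_apply] at h1
  rw [h1, map_mul, map_mul]
  apply LinearMap.ext
  intro v
  have hP : L (P : M2 F) = (T : (Fin 2 → F) →ₗ[F] (Fin 2 → F)) := by
    change Matrix.toLin' (LinearMap.toMatrix' (T : (Fin 2 → F) →ₗ[F] (Fin 2 → F))) = _
    exact Matrix.toLin'_toMatrix' _
  have hP' : L ((P⁻¹ : GL (Fin 2) F) : M2 F) = (T.symm : (Fin 2 → F) →ₗ[F] (Fin 2 → F)) := by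
    change Matrix.toLin' (LinearMap.toMatrix' (T.symm : (Fin 2 → F) →ₗ[F] (Fin 2 → F))) = _
    exact Matrix.toLin'_toMatrix' _
  rw [hP, hP']
  rfl

end sl

section nor

variable {F : Type} [Field F] {k : Type} [Fintype k] [DecidableEq k] {W : Type}
  [AddCommGroup W] [Module F W] {qW : W → F}

/-- the vectors of the block `i` -/
def inc (F : Type) [Field F] (k : Type) [DecidableEq k] (W : Type) [AddCommGroup W] [Module F W] (i : k) :
    M2 F →ₗ[F] (k → M2 F) × W :=
  (LinearMap.inl F (k → M2 F) W).comp (LinearMap.single F (fun _ => M2 F) i)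

theorem inc_apply (i : k) (X : M2 F) : inc F k W i X = (Pi.single i X, 0) := rfl

theorem inc_fst_same (i : k) (X : M2 F) : (inc F k W i X).1 i = X := by
  rw [inc_apply]; exact Pi.single_eq_same _ _

theorem inc_fst_ne {i j : k} (h : j ≠ i) (X : M2 F) : (inc F k W i X).1 j = 0 := by
  rw [inc_apply]; exact Pi.single_eq_of_ne h _

theorem inc_inj (i : k) : Function.Injective (inc F k W i) := by
  intro X Y h
  rw [← inc_fst_same (W := W) i X, h, inc_fst_same]

theorem kp_inc (i : k) (S : SL(2, F)) (X : M2 F) :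
    kp qW (i, true) S (inc F k W i X) = inc F k W i ((S : M2 F) * X) := by
  refine Prod.ext (funext fun j => ?_) rfl
  by_cases hj : j = i
  · subst hj
    rw [inc_fst_same]
    change ((em j (sd true S) : OG (QQ k (dq (F := F)) qW)) (inc F k W j X)).1 j = _
    rw [em_same, inc_fst_same, sd_true]
  · rw [inc_fst_ne hj]
    change ((em i (sd true S) : OG (QQ k (dq (F := F)) qW)) (inc F k W i X)).1 j = _
    rw [em_ne hj, inc_fst_ne hj]

theorem kp_inc' (i : k) (S : SL(2, F)) (X : M2 F) :
    kp qW (i, false) S (inc F k W i X) = inc F k W i (X * ((S⁻¹ : SL(2, F)) : M2 F)) := by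
  refine Prod.ext (funext fun j => ?_) rfl
  by_cases hj : j = i
  · subst hj
    rw [inc_fst_same]
    change ((em j (sd false S) : OG (QQ k (dq (F := F)) qW)) (inc F k W j X)).1 j = _
    rw [em_same, inc_fst_same, sd_false]
  · rw [inc_fst_ne hj]
    change ((em i (sd false S) : OG (QQ k (dq (F := F)) qW)) (inc F k W i X)).1 j = _
    rw [em_ne hj, inc_fst_ne hj]

theorem kp_neg_fst_ne {i j : k} (h : j ≠ i) (v : (k → M2 F) × W) : (kp qW (i, true) (-1) v).1 j = v.1 j := em_ne h _ v

theorem kp_neg_fst_same (i : k) (v : (k → M2 F) × W) : (kp qW (i, true) (-1) v).1 i = - v.1 i := by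
  change ((em i (sd true (-1)) : OG (QQ k (dq (F := F)) qW)) v).1 i = _
  rw [em_same, sd_true]
  change (-1 : M2 F) * _ = _
  rw [neg_one_mul]

theorem kp_neg_snd (i : k) (v : (k → M2 F) × W) : (kp qW (i, true) (-1) v).2 = v.2 := rfl

theorem eq_zero_of_neg (h2 : (2 : F) ≠ 0) {U : Type*} [AddCommGroup U] [Module F U] {u : U} (h : u = -u) : u = 0 := by
  have h1 : (2 : F) • u = 0 := by
    rw [two_smul]
    nth_rewrite 1 [h]
    exact neg_add_cancel u
  exact (smul_eq_zero.1 h1).resolve_left h2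

/-- an isometry commuting with `-1` of the block preserves the block -/
theorem g_inc (h2 : (2 : F) ≠ 0) {g : OG (QQ k (dq (F := F)) qW)} {i : k}
    (hz : g * kp qW (i, true) (-1) = kp qW (i, true) (-1) * g) (X : M2 F) :
    g (inc F k W i X) = inc F k W i ((g (inc F k W i X)).1 i) := by
  have h1 : kp qW (i, true) (-1) (g (inc F k W i X)) = - g (inc F k W i X) := by
    rw [← OG.mul_apply, ← hz, OG.mul_apply, kp_inc]
    change g (inc F k W i ((-1 : M2 F) * X)) = _
    rw [neg_one_mul, map_neg, map_neg]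
  refine Prod.ext (funext fun j => ?_) ?_
  · by_cases hj : j = i
    · subst hj
      rw [inc_fst_same]
    · rw [inc_fst_ne hj]
      apply eq_zero_of_neg h2
      have h3 := congrFun (congrArg Prod.fst h1) j
      rwa [kp_neg_fst_ne hj] at h3
  · apply eq_zero_of_neg h2
    have h3 := congrArg Prod.snd h1
    rwa [kp_neg_snd] at h3

/-- ... and the rest -/
theorem g_rest (h2 : (2 : F) ≠ 0) {g : OG (QQ k (dq (F := F)) qW)} {i : k}
    (hz : g * kp qW (i, true) (-1) = kp qW (i, true) (-1) * g) {v : (k → M2 F) × W} (hv : v.1 i = 0) :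
    (g v).1 i = 0 := by
  have h1 : kp qW (i, true) (-1) v = v := by
    refine Prod.ext (funext fun j => ?_) rfl
    by_cases hj : j = i
    · subst hj
      rw [kp_neg_fst_same, hv, neg_zero]
    · exact kp_neg_fst_ne hj v
  apply eq_zero_of_neg h2
  have h3 : kp qW (i, true) (-1) (g v) = g v := by
    rw [← OG.mul_apply, ← hz, OG.mul_apply, h1]
  have h4 := kp_neg_fst_same (qW := qW) i (g v)
  rwa [h3] at h4

/-- an isometry normalising the block commutes with its involution -/
theorem comm_of_cj (h2 : (2 : F) ≠ 0) {g : OG (QQ k (dq (F := F)) qW)} {i : k}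
    (hg : cj g (KK qW (i, true)) = KK qW (i, true)) : g * kp qW (i, true) (-1) = kp qW (i, true) (-1) * g := by
  have h1 : g * kp qW (i, true) (-1) * g⁻¹ ∈ KK qW (i, true) := by
    rw [← hg]
    exact conj_mem_cj (kp_mem _ _)
  obtain ⟨S, hS⟩ := mem_KK.1 h1
  have h3 : S * S = 1 := by
    apply kp_inj (qW := qW) (i, true)
    rw [map_mul, hS, map_one]
    have h4 : kp qW (i, true) (-1 : SL(2, F)) * kp qW (i, true) (-1) = 1 := by
      rw [← map_mul, neg_mul_neg, one_mul, map_one]
    calc g * kp qW (i, true) (-1) * g⁻¹ * (g * kp qW (i, true) (-1) * g⁻¹) =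
        g * (kp qW (i, true) (-1) * kp qW (i, true) (-1)) * g⁻¹ := by group
      _ = 1 := by rw [h4, mul_one, mul_inv_cancel]
  rcases sl_involution h2 h3 with h4 | h4
  · exfalso
    rw [h4, map_one] at hS
    have h5 : kp qW (i, true) (-1 : SL(2, F)) = 1 := by
      calc kp qW (i, true) (-1) = g⁻¹ * (g * kp qW (i, true) (-1) * g⁻¹) * g := by group
        _ = 1 := by rw [← hS, mul_one, inv_mul_cancel]
    rw [← map_one (kp qW (i, true))] at h5
    have h6 := kp_inj (i, true) h5
    have h7 := congrArg (fun S : SL(2, F) => (S : M2 F) 0 0) h6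
    change (-1 : M2 F) 0 0 = (1 : M2 F) 0 0 at h7
    simp only [Matrix.neg_apply, Matrix.one_apply_eq] at h7
    apply h2
    linear_combination -h7
  · rw [h4] at hS
    calc g * kp qW (i, true) (-1) = g * kp qW (i, true) (-1) * g⁻¹ * g := by group
      _ = _ := by rw [← hS]

/-- the action on the block -/
def blkT (g : OG (QQ k (dq (F := F)) qW)) (i : k) : M2 F →ₗ[F] M2 F where
  toFun X := (g (inc F k W i X)).1 i
  map_add' X Y := by rw [map_add, map_add]; rfl
  map_smul' c X := by rw [map_smul, map_smul]; rfl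

theorem QQ_inc (hW : qW 0 = 0) (i : k) (X : M2 F) : QQ k dq qW (inc F k W i X) = dq X := by
  change ∑ j, dq ((inc F k W i X).1 j) + qW 0 = dq X
  rw [hW, add_zero, Finset.sum_eq_single i, inc_fst_same]
  · intro j _ hj
    rw [inc_fst_ne hj]
    simp [dq]
  · intro h
    exact absurd (Finset.mem_univ i) h

theorem exists_cjS (h2 : (2 : F) ≠ 0) (hW : qW 0 = 0) {g : OG (QQ k (dq (F := F)) qW)} {i : k}
    (hg : cj g (KK qW (i, true)) = KK qW (i, true)) :
    ∃ A : GL (Fin 2) F, ∀ S : SL(2, F), g * kp qW (i, true) S = kp qW (i, true) (cjS A S) * g := by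
  have hz := comm_of_cj h2 hg
  have hT : ∀ X, g (inc F k W i X) = inc F k W i (blkT g i X) := fun X => g_inc h2 hz X
  have hS : ∀ S : SL(2, F), ∃ S' : SL(2, F), g * kp qW (i, true) S = kp qW (i, true) S' * g := by
    intro S
    have h1 : g * kp qW (i, true) S * g⁻¹ ∈ KK qW (i, true) := by
      rw [← hg]
      exact conj_mem_cj (kp_mem _ _)
    obtain ⟨S', hS'⟩ := mem_KK.1 h1
    exact ⟨S', by rw [hS', inv_mul_cancel_right]⟩
  choose f hf using hS
  have hmul : ∀ (S : SL(2, F)) (X : M2 F), blkT g i ((S : M2 F) * X) = (f S : M2 F) * blkT g i X := by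
    intro S X
    apply inc_inj (W := W) i
    rw [← hT, ← kp_inc (qW := qW), ← OG.mul_apply, hf, OG.mul_apply, hT, kp_inc]
  have hdet : (blkT g i 1).det = 1 := by
    have h3 : dq (blkT g i 1) = dq (1 : M2 F) := by
      rw [← QQ_inc hW i, ← hT, OG.iso g, QQ_inc hW]
    rw [dq_eq, dq_eq, Matrix.det_one] at h3
    exact h3
  let C : SL(2, F) := ⟨blkT g i 1, hdet⟩
  have hCC : (C : M2 F) * ((C⁻¹ : SL(2, F)) : M2 F) = 1 := congrArg Subtype.val (mul_inv_cancel C)
  let T' : M2 F →ₗ[F] M2 F := (LinearMap.mulRight F ((C⁻¹ : SL(2, F)) : M2 F)).comp (blkT g i)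
  have hT' : ∀ X, T' X = blkT g i X * ((C⁻¹ : SL(2, F)) : M2 F) := fun X => rfl
  have hone : T' 1 = 1 := by rw [hT']; exact hCC
  have hTS : ∀ S : SL(2, F), T' (S : M2 F) = (f S : M2 F) := by
    intro S
    have h3 := hmul S 1
    rw [Matrix.mul_one] at h3
    rw [hT', h3, Matrix.mul_assoc]
    have h4 : blkT g i 1 * ((C⁻¹ : SL(2, F)) : M2 F) = 1 := hCC
    rw [h4, Matrix.mul_one]
  let P : Submodule F (M2 F) :=
    { carrier := {Y | ∀ X, T' (Y * X) = T' Y * T' X}
      add_mem' := fun {a b} ha hb X => by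
        change T' ((a + b) * X) = T' (a + b) * T' X
        rw [Matrix.add_mul, map_add, map_add, Matrix.add_mul, ha X, hb X]
      zero_mem' := fun X => by
        change T' (0 * X) = T' 0 * T' X
        rw [Matrix.zero_mul, map_zero, Matrix.zero_mul]
      smul_mem' := fun c a ha X => by
        change T' ((c • a) * X) = T' (c • a) * T' X
        rw [Matrix.smul_mul, map_smul, map_smul, Matrix.smul_mul, ha X] }
  have hP : ∀ S : SL(2, F), (S : M2 F) ∈ P := by
    intro S X
    rw [hTS, hT', hmul, hT', Matrix.mul_assoc]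
  have hmulT : ∀ Y X, T' (Y * X) = T' Y * T' X := fun Y X => sl_span hP Y X
  have hinj : Function.Injective T' := by
    intro X Y h
    rw [hT', hT'] at h
    have h3 : blkT g i X = blkT g i Y := by
      have h5 : ((C⁻¹ : SL(2, F)) : M2 F) * (C : M2 F) = 1 := congrArg Subtype.val (inv_mul_cancel C)
      have h4 := congrArg (fun Z => Z * (C : M2 F)) h
      simp only [Matrix.mul_assoc, h5, Matrix.mul_one] at h4
      exact h4
    apply inc_inj (F := F) (W := W) i
    apply OG.inj g
    rw [hT, hT, h3]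
  let φ : M2 F →ₐ[F] M2 F := AlgHom.ofLinearMap T' hone hmulT
  have hφ : Function.Bijective φ := ⟨hinj, (LinearMap.injective_iff_surjective (f := T')).1 hinj⟩
  obtain ⟨A, hA⟩ := exists_conj_of_algEquiv (AlgEquiv.ofBijective φ hφ)
  refine ⟨A, fun S => ?_⟩
  have h6 : f S = cjS A S := by
    apply Subtype.ext
    have h7 := hA (S : M2 F)
    have h8 : (AlgEquiv.ofBijective φ hφ) (S : M2 F) = T' (S : M2 F) := rfl
    rw [h8, hTS] at h7
    exact h7
  rw [← h6]
  exact hf S

/-- an isometry centralising the blocks `KK (i, true)`, `KK (i, false)` acts on the block `i` of the space as a scalar -/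
theorem exists_scalar (h2 : (2 : F) ≠ 0) {g : OG (QQ k (dq (F := F)) qW)} {i : k}
    (h : ∀ s, ∀ y ∈ KK qW (i, s), g * y = y * g) : ∃ c : F, ∀ X, g (inc F k W i X) = c • inc F k W i X := by
  have hz : g * kp qW (i, true) (-1) = kp qW (i, true) (-1) * g := h true _ (kp_mem _ _)
  have hT : ∀ X, g (inc F k W i X) = inc F k W i (blkT g i X) := fun X => g_inc h2 hz X
  have hl : ∀ (S : SL(2, F)) (X : M2 F), blkT g i ((S : M2 F) * X) = (S : M2 F) * blkT g i X := by
    intro S X
    apply inc_inj (F := F) (W := W) i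
    rw [← hT, ← kp_inc (qW := qW), ← OG.mul_apply, h true _ (kp_mem _ _), OG.mul_apply, hT, kp_inc]
  have hr : ∀ (S : SL(2, F)) (X : M2 F), blkT g i (X * (S : M2 F)) = blkT g i X * (S : M2 F) := by
    intro S X
    apply inc_inj (F := F) (W := W) i
    have h3 := kp_inc' (qW := qW) i S⁻¹ X
    have h4 := kp_inc' (qW := qW) i S⁻¹ (blkT g i X)
    rw [inv_inv] at h3 h4
    rw [← hT, ← h3, ← OG.mul_apply, h false _ (kp_mem _ _), OG.mul_apply, hT, h4]
  let P : Submodule F (M2 F) :=
    { carrier := {Y | blkT g i Y = Y * blkT g i 1 ∧ blkT g i Y = blkT g i 1 * Y}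
      add_mem' := fun {a b} ha hb => by
        refine ⟨?_, ?_⟩
        · rw [map_add, ha.1, hb.1, Matrix.add_mul]
        · rw [map_add, ha.2, hb.2, Matrix.mul_add]
      zero_mem' := ⟨by rw [map_zero, Matrix.zero_mul], by rw [map_zero, Matrix.mul_zero]⟩
      smul_mem' := fun c a ha => by
        refine ⟨?_, ?_⟩
        · rw [map_smul, ha.1, Matrix.smul_mul]
        · rw [map_smul, ha.2, Matrix.mul_smul] }
  have hP : ∀ S : SL(2, F), (S : M2 F) ∈ P := by
    intro S
    refine ⟨?_, ?_⟩
    · have := hl S 1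
      rwa [Matrix.mul_one] at this
    · have := hr S 1
      rwa [Matrix.one_mul] at this
  have hX : ∀ X : M2 F, blkT g i X = X * blkT g i 1 ∧ blkT g i X = blkT g i 1 * X := fun X => sl_span hP X
  set A := blkT g i 1 with hA
  have e1 := (hX !![0, 1; 0, 0]).1.symm.trans (hX !![0, 1; 0, 0]).2
  have e2 := (hX !![0, 0; 1, 0]).1.symm.trans (hX !![0, 0; 1, 0]).2
  have a1 := congrFun (congrFun e1 0) 0
  have a2 := congrFun (congrFun e1 0) 1
  have a3 := congrFun (congrFun e2 0) 0
  simp [Matrix.mul_apply, Fin.sum_univ_two] at a1 a2 a3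
  replace a3 := a3.symm
  refine ⟨A 0 0, fun X => ?_⟩
  rw [hT, ← map_smul, (hX X).1]
  congr 1
  have hA' : A = (A 0 0) • 1 := by
    ext i j
    fin_cases i <;> fin_cases j <;> simp [a1, a2, a3]
  rw [hA', Matrix.mul_smul, Matrix.mul_one]
  simp

end nor

end Cfsg.Agent.H592.KW
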