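import Cfsg.Agent.H592.KW.Emb
import Cfsg.Agent.H592.KW.Arith
import Cfsg.Agent.S0286
import Cfsg.Agent.S0287
import Cfsg.Agent.S0288

/-!
# S4243 (TEAM KW, K4): the orthogonal groups, `q > 3` (helper592)

* `noP_pomegaOdd`, `noP_pomegaPlus`, `noP_pomegaMinus`
-/

set_option autoImplicit false
set_option linter.unusedSectionVars false

namespace Cfsg.Agent.H592.KW

open Subgroup Matrix Cfsg.Agent.H146.KW Cfsg.Agent.H838.KW QuadraticMap
open Cfsg.Agent.LieClassical.OmegaReindex

variable {F : Type} [Field F] [Fintype F] {r : ℕ} [hr : Fact r.Prime] [CharP F r]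

theorem exists_jt (m : ℕ) : ∃ j t, m = j + j + t ∧ t < 2 := ⟨m / 2, m % 2, by omega, by omega⟩

theorem odd_card (hr2 : r ≠ 2) : Odd (Fintype.card F) := by
  obtain ⟨n, -, hn⟩ := FiniteField.card F r
  rw [hn]
  exact Odd.pow (hr.1.odd_of_ne_two hr2)

theorem card_plus_zero : Nat.card (OG (Cfsg.quadFormPlus 0 F)) ≠ 0 := Nat.card_pos.ne'

theorem v_fact' {j t : ℕ} (ht : t < 2) : padicValNat 2 (j + j + t).factorial = j + padicValNat 2 j.factorial := by
  rw [← two_mul]; exact v_fact ht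

theorem v_fact_small {t : ℕ} (ht : t < 2) : padicValNat 2 t.factorial = 0 := by
  have := v_fact (j := 0) ht
  rw [mul_zero, zero_add] at this
  rw [this]; simp

theorem card_minus {a b : F} (hab : ∀ z₁ z₂ : F, z₁ ^ 2 + a * z₁ * z₂ + b * z₂ ^ 2 = 0 → z₁ = 0 ∧ z₂ = 0) (M : ℕ) :
    Nat.card (Cfsg.isometryGroup F (Cfsg.quadFormMinus M F a b)) =
      2 * Fintype.card F ^ ((M + 1) * M) * (Fintype.card F ^ (M + 1) + 1) *
        ∏ i ∈ Finset.range M, (Fintype.card F ^ (2 * (i + 1)) - 1) := by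
  have h := S0288.result (F := F) (q := Fintype.card F) rfl (M + 1) (by omega) a b hab
  rwa [Nat.add_sub_cancel] at h

theorem noP_pomegaOdd (hr2 : r ≠ 2) (hq : 3 < Fintype.card F) {m : ℕ} (hm : 3 ≤ m) :
    NoP 2 r (Cfsg.POmega F (Cfsg.quadFormOdd m F)) := by
  obtain ⟨j, t, rfl, ht⟩ := exists_jt m
  have h2 : (2 : F) ≠ 0 := two_ne_zero_of_char (r := r) hr2
  have ho : Odd (Fintype.card F) := odd_card (r := r) hr2
  refine noP_main hr2 hq (quadOdd (j + j + t) F) (coe_quadOdd (m := j + j + t) (F := F)) (quadOdd_nondegenerate h2)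
    (by simp; omega) (quadOdd_isotropic (by omega)) (W := Unit ⊕ (Fin t ⊕ Fin t) → F) (qW := Cfsg.quadFormOdd t F)
    (BW := polar (quadOdd t F)) (by rw [← coe_quadOdd]; exact qb_of _) (by omega) (e1 F j t) (e1_form F j t) ?_
  rw [card_OG (LinearEquiv.refl F _) (fun v => (rfl : Cfsg.quadFormOdd t F v = _)), S0286.result rfl ho,
    S0286.result rfl ho, v_form' ho (by omega), v_wr ho (by omega), v_form' ho (by omega), v_fact' ht, v_fact_small ht]
  · exact le_of_eq (by ring)
  · exact Nat.mul_ne_zero (Nat.mul_ne_zero two_ne_zero (pow_ne_zero _ (by omega))) (prod_ne (by omega) _)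

theorem noP_pomegaPlus (hr2 : r ≠ 2) (hq : 3 < Fintype.card F) {m : ℕ} (hm : 4 ≤ m) :
    NoP 2 r (Cfsg.POmega F (Cfsg.quadFormPlus m F)) := by
  obtain ⟨j, t, rfl, ht⟩ := exists_jt m
  have ho : Odd (Fintype.card F) := odd_card (r := r) hr2
  refine noP_main hr2 hq (quadPlus (j + j + t) F) (coe_quadPlus (m := j + j + t) (F := F)) quadPlus_nondegenerate
    (by simp; omega) (quadPlus_isotropic (by omega)) (W := Fin t ⊕ Fin t → F) (qW := Cfsg.quadFormPlus t F)
    (BW := polar (quadPlus t F)) (by rw [← coe_quadPlus]; exact qb_of _) (by omega) (e0 F j t) (e0_form F j t) ?_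
  rw [S0287.result rfl _ (by omega), v_form ho (by omega) (q_ne (by omega) (by omega))]
  obtain rfl | rfl : t = 0 ∨ t = 1 := by omega
  · rw [v_wr ho (by omega) card_plus_zero]
    have h1 := v_even ho (by omega) (i := j) (by omega)
    have h3 := v_fact_pred (j := j) (by omega)
    rw [show j + j + 0 = 2 * j by omega, h1]
    set c := padicValNat 2 (Fintype.card F ^ 2 - 1)
    obtain ⟨i, rfl⟩ : ∃ i, j = i + 1 := ⟨j - 1, by omega⟩
    have h4 : 2 * (i + 1) - 1 = 2 * i + 1 := by omega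
    rw [h4] at h3 ⊢
    have h5 : 1 + (c + padicValNat 2 (i + 1)) + ((2 * i + 1) * c + padicValNat 2 (2 * i + 1).factorial) =
      (i + 1) * (2 * c) + (padicValNat 2 (2 * i + 1).factorial + padicValNat 2 (i + 1) + 1) := by ring
    have h6 : (i + 1) * (1 + 2 * c) = (i + 1) * (2 * c) + (i + 1) := by ring
    rw [h5, h3, h6]
    omega
  · have h1 := (v_odd (n := j + j + 1) ho (by omega) ⟨j, by omega⟩).1
    have h3 := v_fact' (j := j) (t := 0) (by norm_num)
    rw [card_OG (LinearEquiv.refl F _) (fun v => (rfl : Cfsg.quadFormPlus 1 F v = _)), S0287.result rfl _ le_rfl,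
      v_wr ho (by omega), v_form ho (by omega) (q_ne (by omega) (by omega)), h1, Nat.add_sub_cancel]
    · rw [add_zero] at h3
      rw [h3, pow_one]
      simp only [tsub_self, Nat.factorial_zero, padicValNat_one_right]
      exact le_of_eq (by ring)
    · exact Nat.mul_ne_zero (Nat.mul_ne_zero (Nat.mul_ne_zero two_ne_zero (pow_ne_zero _ (by omega)))
        (q_ne (by omega) (by omega))) (prod_ne (by omega) _)

theorem noP_pomegaMinus (hr2 : r ≠ 2) (hq : 3 < Fintype.card F) {m : ℕ} (hm : 4 ≤ m) {a b : F}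
    (hab : ∀ z₁ z₂ : F, z₁ ^ 2 + a * z₁ * z₂ + b * z₂ ^ 2 = 0 → z₁ = 0 ∧ z₂ = 0) :
    NoP 2 r (Cfsg.POmega F (Cfsg.quadFormMinus (m - 1) F a b)) := by
  obtain ⟨j, t, hjt, ht⟩ := exists_jt (m - 1)
  rw [hjt]
  have ho : Odd (Fintype.card F) := odd_card (r := r) hr2
  refine noP_main hr2 hq (quadMinus (j + j + t) F a b) (coe_quadMinus (m := j + j + t) (F := F) a b)
    (quadMinus_nondegenerate hab)
    (by simp; omega) (quadMinus_isotropic (by omega) a b) (W := (Fin t ⊕ Fin t) ⊕ Fin 2 → F)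
    (qW := Cfsg.quadFormMinus t F a b)
    (BW := polar (quadMinus t F a b)) (by rw [← coe_quadMinus]; exact qb_of _) (by omega) (e2 F j t)
    (e2_form F j t a b) ?_
  rw [card_OG (LinearEquiv.refl F _) (fun v => (rfl : Cfsg.quadFormMinus t F a b v = _)), card_minus hab,
    card_minus hab, v_form ho (by omega) (by positivity), v_wr ho (by omega), v_form ho (by omega) (by positivity),
    v_fact' ht, v_fact_small ht]
  · have h1 : padicValNat 2 (Fintype.card F ^ (j + j + t + 1) + 1) = padicValNat 2 (Fintype.card F ^ (t + 1) + 1) := by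
      obtain rfl | rfl : t = 0 ∨ t = 1 := by omega
      · rw [(v_odd (n := j + j + 0 + 1) ho (by omega) ⟨j, by omega⟩).2, zero_add, pow_one]
      · rw [v_even_add ho (by exact ⟨j + 1, by omega⟩), v_even_add ho (by decide)]
    rw [h1]
    exact le_of_eq (by ring)
  · exact Nat.mul_ne_zero (Nat.mul_ne_zero (Nat.mul_ne_zero two_ne_zero (pow_ne_zero _ (by omega)))
        (by positivity)) (prod_ne (by omega) _)

end Cfsg.Agent.H592.KW
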